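/-
Basic facts on finite supersolvable groups: closure properties, a normal subgroup of prime
order, and normality of the Sylow subgroup for the largest prime.
-/
import Cfsg.Prelude.Def_SolvableStructure
import Mathlib

set_option autoImplicit false
set_option linter.style.haveILetI false

namespace CfsgLib.Supersolvable

open Cfsg

universe u v

variable {G : Type u} [Group G]

/-- A homomorphic image of a supersolvable group is supersolvable. -/
theorem of_surjective {K : Type v} [Group K] (hG : IsSupersolvable G) (f : G →* K)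
    (hf : Function.Surjective f) : IsSupersolvable K := by
  obtain ⟨n, H, h0, hl, hn, hstep⟩ := hG
  refine ⟨n, fun i => (H i).map f, by simp [h0], by
    change (H (Fin.last n)).map f = ⊤
    rw [hl, Subgroup.map_top_of_surjective f hf], fun i => (hn i).map f hf, fun i => ?_⟩
  obtain ⟨g, hg⟩ := hstep i
  refine ⟨f g, ?_⟩
  change (H i.succ).map f = (H i.castSucc).map f ⊔ _
  rw [hg, Subgroup.map_sup, MonoidHom.map_zpowers]

theorem quotient (hG : IsSupersolvable G) (N : Subgroup G) [N.Normal] :
    IsSupersolvable (G ⧸ N) :=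
  of_surjective hG (QuotientGroup.mk' N) (QuotientGroup.mk'_surjective N)

/-- A nontrivial supersolvable group has a normal subgroup of prime order. -/
theorem exists_normal_prime_card [Finite G] [Nontrivial G] (hG : IsSupersolvable G) :
    ∃ N : Subgroup G, N.Normal ∧ (Nat.card N).Prime := by
  obtain ⟨n, H, h0, hl, hn, hstep⟩ := hG
  have hex : ∃ i : Fin n, H i.castSucc = ⊥ ∧ H i.succ ≠ ⊥ := by
    by_contra hno
    push Not at hno
    have h : ∀ i : Fin (n + 1), H i = ⊥ := by
      intro i
      induction i using Fin.induction with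
      | zero => exact h0
      | succ i ih => exact hno i ih
    exact top_ne_bot (hl.symm.trans (h _))
  obtain ⟨i, hi, hne⟩ := hex
  obtain ⟨g, hg⟩ := hstep i
  rw [hi, bot_sup_eq] at hg
  have hnorm : (Subgroup.zpowers g).Normal := hg ▸ hn i.succ
  have hg1 : g ≠ 1 := fun h => hne (by rw [hg, h, Subgroup.zpowers_one_eq_bot])
  obtain ⟨r, hr, hrd⟩ := Nat.exists_prime_and_dvd (mt orderOf_eq_one_iff.mp hg1)
  refine ⟨Subgroup.zpowers (g ^ (orderOf g / r)), ⟨fun y hy x => ?_⟩, ?_⟩
  · obtain ⟨k, rfl⟩ := Subgroup.mem_zpowers_iff.mp hy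
    obtain ⟨j, hj⟩ := Subgroup.mem_zpowers_iff.mp
      (hnorm.conj_mem g (Subgroup.mem_zpowers g) x)
    refine Subgroup.mem_zpowers_iff.mpr ⟨j * k, ?_⟩
    rw [← conj_zpow, ← conj_pow, ← hj, ← zpow_natCast g, ← zpow_natCast (g ^ j), ← zpow_mul,
      ← zpow_mul, ← zpow_mul]
    congr 1
    ring
  · rw [Nat.card_zpowers, orderOf_pow_orderOf_div (orderOf_pos g).ne' hrd]
    exact hr

theorem card_comap_mk' [Finite G] (N : Subgroup G) [N.Normal] (M : Subgroup (G ⧸ N)) :
    Nat.card (M.comap (QuotientGroup.mk' N)) = Nat.card N * Nat.card M := by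
  set K := M.comap (QuotientGroup.mk' N) with hKdef
  have hle : N ≤ K := (QuotientGroup.ker_mk' N).symm.trans_le (Subgroup.ker_le_comap _ M)
  have hmap : K.map (QuotientGroup.mk' N) = M :=
    Subgroup.map_comap_eq_self_of_surjective (QuotientGroup.mk'_surjective N) M
  have e := Subgroup.card_mul_index (N.subgroupOf K)
  have h1 : Nat.card (N.subgroupOf K) = Nat.card N :=
    Nat.card_congr (Subgroup.subgroupOfEquivOfLe hle).toEquiv
  have h2 : (N.subgroupOf K).index = Nat.card M := by
    rw [← hmap]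
    have h3 := Subgroup.relIndex_ker (K := K) (QuotientGroup.mk' N)
    rw [QuotientGroup.ker_mk'] at h3
    exact h3
  rw [h1, h2] at e
  exact e.symm

/-- In a supersolvable group the Sylow subgroup for the largest prime divisor is normal. -/
theorem normal_sylow_largest_prime {G : Type u} [Group G] [Finite G] (hG : IsSupersolvable G)
    (p : ℕ) [hp : Fact p.Prime] (hmax : ∀ q : ℕ, q.Prime → q ∣ Nat.card G → q ≤ p)
    (P : Sylow p G) : (P : Subgroup G).Normal := by
  suffices H : ∀ k : ℕ, ∀ (K : Type u) [Group K] [Finite K], Nat.card K = k → IsSupersolvable K →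
      (∀ q : ℕ, q.Prime → q ∣ Nat.card K → q ≤ p) → ∀ P : Sylow p K, (P : Subgroup K).Normal from
    H _ G rfl hG hmax P
  intro k
  induction k using Nat.strong_induction_on with
  | _ k IH =>
  intro K _ _ hk hK hmax P
  subst hk
  rcases subsingleton_or_nontrivial K with hsub | hnt
  · exact ⟨fun y hy x => by rw [Subsingleton.elim (x * y * x⁻¹) y]; exact hy⟩
  obtain ⟨N, hN, hNp⟩ := exists_normal_prime_card hK
  haveI := hN
  set f := QuotientGroup.mk' N
  have hf : Function.Surjective f := QuotientGroup.mk'_surjective N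
  have hcard : Nat.card K = Nat.card (K ⧸ N) * Nat.card N :=
    Subgroup.card_eq_card_quotient_mul_card_subgroup N
  have hlt : Nat.card (K ⧸ N) < Nat.card K := by
    rw [hcard]; exact lt_mul_of_one_lt_right Nat.card_pos hNp.one_lt
  have hdvdQ : Nat.card (K ⧸ N) ∣ Nat.card K := hcard ▸ dvd_mul_right _ _
  have hQn : ((P.mapSurjective hf : Sylow p (K ⧸ N)) : Subgroup (K ⧸ N)).Normal :=
    IH _ hlt (K ⧸ N) rfl (quotient hK N) (fun q hq hd => hmax q hq (hd.trans hdvdQ)) _
  set M : Subgroup K := ((P : Subgroup K).map f).comap f with hM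
  haveI hMn : M.Normal := by
    have : ((P : Subgroup K).map f).Normal := by
      rw [← Sylow.coe_mapSurjective hf P]; exact hQn
    exact this.comap f
  have hPM : (P : Subgroup K) ≤ M := Subgroup.le_comap_map f _
  set P' : Sylow p M := P.subtype hPM
  -- it suffices that `P'` be normal in `M`
  suffices hP' : ((P' : Subgroup M)).Normal by
    haveI := hP'
    haveI : ((P' : Subgroup M)).Characteristic := Sylow.characteristic_of_normal P' hP'
    have hmap : ((P' : Subgroup M)).map M.subtype = (P : Subgroup K) := by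
      rw [Sylow.coe_subtype]
      exact Subgroup.map_subgroupOf_eq_of_le hPM
    rw [← hmap]
    infer_instance
  have hMcard : Nat.card M = Nat.card N * Nat.card ((P : Subgroup K).map f) :=
    card_comap_mk' N _
  obtain ⟨a, ha⟩ := IsPGroup.iff_card.mp ((P.2).map f)
  by_cases hNeq : Nat.card N = p
  · -- `M` is a `p`-group
    have hMp : IsPGroup p M := IsPGroup.of_card (n := a + 1) (by rw [hMcard, ha, hNeq]; ring)
    have htop : ((P' : Subgroup M)) = ⊤ :=
      (P'.3 (Q := ⊤) (hMp.of_equiv Subgroup.topEquiv.symm) le_top).symm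
    rw [htop]; infer_instance
  · have hlt' : Nat.card N < p := lt_of_le_of_ne (hmax _ hNp (Subgroup.card_subgroup_dvd_card N)) hNeq
    have hone : Nat.card (Sylow p M) = 1 := by
      have hdvd : Nat.card (Sylow p M) ∣ Nat.card N * p ^ a := by
        rw [← ha, ← hMcard]
        exact (Sylow.card_dvd_index P').trans (Subgroup.index_dvd_card _)
      have hcop : (Nat.card (Sylow p M)).Coprime (p ^ a) :=
        Nat.Coprime.pow_right _ (Nat.Coprime.symm ((Nat.Prime.coprime_iff_not_dvd hp.out).mpr
          (not_dvd_card_sylow p M)))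
      have hle : Nat.card (Sylow p M) ≤ Nat.card N :=
        Nat.le_of_dvd hNp.pos (hcop.dvd_of_dvd_mul_right hdvd)
      have hmod : Nat.card (Sylow p M) % p = 1 % p := card_sylow_modEq_one p M
      rwa [Nat.mod_eq_of_lt (hle.trans_lt hlt'), Nat.mod_eq_of_lt hp.out.one_lt] at hmod
    haveI : Subsingleton (Sylow p M) := (Nat.card_eq_one_iff_unique.mp hone).1
    exact Sylow.normal_of_subsingleton P'

theorem of_subsingleton [Subsingleton G] : IsSupersolvable G :=
  ⟨0, fun _ => ⊥, rfl, Subsingleton.elim _ _, fun _ => inferInstance, fun i => i.elim0⟩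

/-- An extension of a cyclic normal subgroup by a supersolvable group is supersolvable. -/
theorem of_quotient_cyclic (N : Subgroup G) [N.Normal] [IsCyclic N]
    (h : IsSupersolvable (G ⧸ N)) : IsSupersolvable G := by
  obtain ⟨n, H, h0, hl, hn, hstep⟩ := h
  set f := QuotientGroup.mk' N
  have hf : Function.Surjective f := QuotientGroup.mk'_surjective N
  obtain ⟨⟨a, ha⟩, hgen⟩ := IsCyclic.exists_generator (α := N)
  have hNa : N = Subgroup.zpowers a := by
    refine le_antisymm (fun x hx => ?_) (Subgroup.zpowers_le.mpr ha)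
    obtain ⟨j, hj⟩ := Subgroup.mem_zpowers_iff.mp (hgen ⟨x, hx⟩)
    exact Subgroup.mem_zpowers_iff.mpr ⟨j, by simpa using congrArg Subtype.val hj⟩
  let H' : Fin (n + 1 + 1) → Subgroup G := Fin.cases ⊥ fun i => (H i).comap f
  have hz : H' 0 = ⊥ := rfl
  have hs : ∀ i, H' i.succ = (H i).comap f := fun i => rfl
  refine ⟨n + 1, H', rfl, ?_, ?_, ?_⟩
  · rw [show Fin.last (n + 1) = (Fin.last n).succ from rfl, hs, hl, Subgroup.comap_top]
  · intro i
    induction i using Fin.cases with
    | zero => rw [hz]; infer_instance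
    | succ i => rw [hs]; exact (hn i).comap f
  · intro i
    induction i using Fin.cases with
    | zero =>
      refine ⟨a, ?_⟩
      rw [hs, h0, MonoidHom.comap_bot, QuotientGroup.ker_mk', Fin.castSucc_zero,
        hz, bot_sup_eq, hNa]
    | succ i =>
      obtain ⟨g, hg⟩ := hstep i
      obtain ⟨g', rfl⟩ := hf g
      refine ⟨g', ?_⟩
      rw [hs, ← Fin.succ_castSucc, hs]
      apply Subgroup.map_injective_of_ker_le f
      · exact Subgroup.ker_le_comap f _
      · exact le_sup_of_le_left (Subgroup.ker_le_comap f _)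
      · rw [Subgroup.map_sup, Subgroup.map_comap_eq_self_of_surjective hf,
          Subgroup.map_comap_eq_self_of_surjective hf, MonoidHom.map_zpowers]
        exact hg

/-- A subgroup of a supersolvable group is supersolvable. -/
theorem subgroup (hG : IsSupersolvable G) (K : Subgroup G) : IsSupersolvable K := by
  obtain ⟨n, H, h0, hl, hn, hstep⟩ := hG
  refine ⟨n, fun i => (H i).subgroupOf K, ?_, ?_, fun i => (hn i).comap K.subtype, fun i => ?_⟩
  · change (H 0).subgroupOf K = ⊥
    rw [h0, Subgroup.bot_subgroupOf]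
  · change (H (Fin.last n)).subgroupOf K = ⊤
    rw [hl, Subgroup.top_subgroupOf]
  obtain ⟨g, hg⟩ := hstep i
  haveI := hn i.castSucc
  set f := (QuotientGroup.mk' (H i.castSucc)).comp K.subtype with hf
  set T := ((H i.succ).subgroupOf K).map f
  have hker : f.ker = (H i.castSucc).subgroupOf K := by
    ext x
    simp [hf, MonoidHom.mem_ker, Subgroup.mem_subgroupOf, QuotientGroup.eq_one_iff]
  have hT : T ≤ Subgroup.zpowers (QuotientGroup.mk' (H i.castSucc) g) := by
    rintro _ ⟨x, hx, rfl⟩
    have hx' : (x : G) ∈ H i.castSucc ⊔ Subgroup.zpowers g := hg ▸ hx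
    obtain ⟨y, hy, z, hz, hyz⟩ := Subgroup.mem_sup_of_normal_left.mp hx'
    obtain ⟨j, rfl⟩ := Subgroup.mem_zpowers_iff.mp hz
    refine Subgroup.mem_zpowers_iff.mpr ⟨j, ?_⟩
    have hy1 : QuotientGroup.mk' (H i.castSucc) y = 1 := (QuotientGroup.eq_one_iff y).mpr hy
    rw [show f x = QuotientGroup.mk' (H i.castSucc) (x : G) from rfl, ← hyz, map_mul, map_zpow,
      hy1, one_mul]
  haveI : IsCyclic T := isCyclic_of_injective _ (Subgroup.inclusion_injective hT)
  obtain ⟨⟨t, ht⟩, hgen⟩ := IsCyclic.exists_generator (α := T)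
  obtain ⟨k, hk, hkt⟩ := id ht
  refine ⟨k, ?_⟩
  apply Subgroup.map_injective_of_ker_le f
  · rw [hker]
    exact fun x hx => show (x : G) ∈ H i.succ from hg ▸ Subgroup.mem_sup_left hx
  · rw [hker]; exact le_sup_left
  rw [Subgroup.map_sup, MonoidHom.map_zpowers, hkt, (Subgroup.map_eq_bot_iff _).mpr hker.ge,
    bot_sup_eq]
  refine le_antisymm (fun x hx => ?_) (Subgroup.zpowers_le.mpr ht)
  obtain ⟨j, hj⟩ := Subgroup.mem_zpowers_iff.mp (hgen ⟨x, hx⟩)
  exact Subgroup.mem_zpowers_iff.mpr ⟨j, by simpa using congrArg Subtype.val hj⟩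

theorem of_mulEquiv {K : Type v} [Group K] (hG : IsSupersolvable G) (e : G ≃* K) :
    IsSupersolvable K :=
  of_surjective hG e.toMonoidHom e.surjective

/-- In a supersolvable group every nontrivial normal subgroup contains a normal subgroup of
prime order. -/
theorem exists_normal_prime_card_le [Finite G] (hG : IsSupersolvable G) (M : Subgroup G)
    [M.Normal] (hM : M ≠ ⊥) :
    ∃ N : Subgroup G, N.Normal ∧ N ≤ M ∧ (Nat.card N).Prime := by
  obtain ⟨n, H, h0, hl, hn, hstep⟩ := hG
  have hex : ∃ i : Fin n, H i.castSucc ⊓ M = ⊥ ∧ H i.succ ⊓ M ≠ ⊥ := by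
    by_contra hno
    push Not at hno
    have h : ∀ i : Fin (n + 1), H i ⊓ M = ⊥ := by
      intro i
      induction i using Fin.induction with
      | zero => rw [h0, bot_inf_eq]
      | succ i ih => exact hno i ih
    exact hM (by simpa [hl] using h (Fin.last n))
  obtain ⟨i, hi, hne⟩ := hex
  obtain ⟨g, hg⟩ := hstep i
  haveI := hn i.castSucc
  haveI : (H i.succ ⊓ M).Normal := by
    haveI := hn i.succ
    infer_instance
  set L := H i.succ ⊓ M
  set f := (QuotientGroup.mk' (H i.castSucc)).comp L.subtype with hf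
  have hinj : Function.Injective f := by
    refine (MonoidHom.ker_eq_bot_iff f).mp ((Subgroup.eq_bot_iff_forall _).mpr fun x hx => ?_)
    have hx' : (x : G) ∈ H i.castSucc := (QuotientGroup.eq_one_iff (x : G)).mp hx
    have : (x : G) ∈ H i.castSucc ⊓ M := ⟨hx', x.2.2⟩
    rw [hi, Subgroup.mem_bot] at this
    exact Subtype.ext this
  have hrange : ∀ x : L, f x ∈ Subgroup.zpowers (QuotientGroup.mk' (H i.castSucc) g) := by
    intro x
    have hx' : (x : G) ∈ H i.castSucc ⊔ Subgroup.zpowers g := hg ▸ x.2.1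
    obtain ⟨y, hy, z, hz, hyz⟩ := Subgroup.mem_sup_of_normal_left.mp hx'
    obtain ⟨j, rfl⟩ := Subgroup.mem_zpowers_iff.mp hz
    refine Subgroup.mem_zpowers_iff.mpr ⟨j, ?_⟩
    have hy1 : QuotientGroup.mk' (H i.castSucc) y = 1 := (QuotientGroup.eq_one_iff y).mpr hy
    rw [show f x = QuotientGroup.mk' (H i.castSucc) (x : G) from rfl, ← hyz, map_mul, map_zpow,
      hy1, one_mul]
  haveI : IsCyclic L := isCyclic_of_injective (f.codRestrict _ hrange)
    (fun a b h => hinj (congrArg Subtype.val h))
  haveI : Nontrivial L := (Subgroup.nontrivial_iff_ne_bot L).mpr hne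
  obtain ⟨r, hr, hrd⟩ := Nat.exists_prime_and_dvd (Finite.one_lt_card (α := L)).ne'
  haveI : Fact r.Prime := ⟨hr⟩
  obtain ⟨x, hx⟩ := exists_prime_orderOf_dvd_card' r hrd
  refine ⟨(Subgroup.zpowers x).map L.subtype, ?_, Subgroup.map_subtype_le _ |>.trans inf_le_right,
    ?_⟩
  · haveI : (Subgroup.zpowers x).Characteristic := by
      rw [Subgroup.characteristic_iff_map_le]
      intro e
      obtain ⟨m, hm⟩ := MonoidHom.map_cyclic e.toMonoidHom
      rw [MonoidHom.map_zpowers, Subgroup.zpowers_le, hm x]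
      exact Subgroup.zpow_mem _ (Subgroup.mem_zpowers x) m
    infer_instance
  · rw [← Nat.card_congr ((Subgroup.zpowers x).equivMapOfInjective L.subtype
      L.subtype_injective).toEquiv, Nat.card_zpowers, hx]
    exact hr

end CfsgLib.Supersolvable
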