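/-
Supersolvability criteria: a group covered by a normal p-subgroup and a supersolvable
subgroup of index at most `p`, and groups whose quotients all have a normal prime subgroup.
-/
import Cfsg.Agent.Lib.Supersolvable.Basic
import Cfsg.Agent.Lib.Critical.Basic
import Mathlib

set_option autoImplicit false
set_option linter.style.haveILetI false

namespace CfsgLib.Supersolvable

open Cfsg

universe u

/-- If `G = P M` with `P` a normal `p`-subgroup, `M` supersolvable and `|P : P ∩ M| ∣ p`,
then `G` is supersolvable. -/
theorem of_normal_pgroup_sup {G : Type u} [Group G] [Finite G] (p : ℕ) [Fact p.Prime]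
    (P M : Subgroup G) [P.Normal] (hP : IsPGroup p P) (hM : IsSupersolvable M)
    (htop : P ⊔ M = ⊤) (hidx : M.relIndex P ∣ p) : IsSupersolvable G := by
  suffices H : ∀ k : ℕ, ∀ (G : Type u) [Group G] [Finite G] (P M : Subgroup G) [P.Normal],
      Nat.card G = k → IsPGroup p P → IsSupersolvable M → P ⊔ M = ⊤ → M.relIndex P ∣ p →
      IsSupersolvable G from H _ G P M rfl hP hM htop hidx
  intro k
  induction k using Nat.strong_induction_on with
  | _ k IH =>
  intro G _ _ P M _ hk hP hM htop hidx
  subst hk
  set D := M ⊓ P with hD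
  by_cases hD0 : D = ⊥
  · have hcard : M.relIndex P = Nat.card P := by
      rw [← Subgroup.inf_relIndex_right, ← hD, hD0, Subgroup.relIndex_bot_left]
    haveI : IsCyclic P := by
      rcases (Nat.dvd_prime Fact.out).mp (hcard ▸ hidx) with h1 | h1
      · haveI := (Nat.card_eq_one_iff_unique.mp h1).1
        exact isCyclic_of_subsingleton
      · exact isCyclic_of_prime_card h1
    refine of_quotient_cyclic P (of_surjective hM ((QuotientGroup.mk' P).comp M.subtype) ?_)
    intro y
    obtain ⟨x, rfl⟩ := QuotientGroup.mk'_surjective P y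
    obtain ⟨a, ha, b, hb, rfl⟩ := Subgroup.mem_sup_of_normal_left.mp
      (htop ▸ Subgroup.mem_top x : x ∈ P ⊔ M)
    refine ⟨⟨b, hb⟩, ?_⟩
    rw [MonoidHom.comp_apply, map_mul]
    rw [show QuotientGroup.mk' P a = 1 from (QuotientGroup.eq_one_iff a).mpr ha, one_mul]
    rfl
  · -- `D` is normal in `G`
    have hDP : (D.subgroupOf P).Normal := by
      rcases (Nat.dvd_prime Fact.out).mp hidx with h1 | h1
      · have : P ≤ M := Subgroup.relIndex_eq_one.mp h1
        rw [hD, inf_eq_right.mpr this, Subgroup.subgroupOf_self]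
        infer_instance
      · have h2 : (D.subgroupOf P).index = p := by
          rw [hD, Subgroup.inf_subgroupOf_right]; exact h1
        apply Subgroup.normal_of_index_eq_minFac_card
        obtain ⟨a, ha⟩ := IsPGroup.iff_card.mp hP
        have ha0 : a ≠ 0 := by
          rintro rfl
          have := Subgroup.index_dvd_card (D.subgroupOf P)
          rw [h2, ha, pow_zero, Nat.dvd_one] at this
          exact (Fact.out : p.Prime).one_lt.ne' this
        rw [h2, ha, (Fact.out : p.Prime).pow_minFac ha0]
    haveI hDn : D.Normal := by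
      rw [← Subgroup.normalizer_eq_top_iff, eq_top_iff, ← htop, sup_le_iff]
      refine ⟨(Subgroup.normal_subgroupOf_iff_le_normalizer (inf_le_right : D ≤ P)).mp hDP,
        fun x hx => ?_⟩
      refine Subgroup.mem_normalizer_iff.mpr fun y => ⟨fun hy => ?_, fun hy => ?_⟩
      · exact ⟨M.mul_mem (M.mul_mem hx hy.1) (M.inv_mem hx),
          Subgroup.Normal.conj_mem inferInstance y hy.2 x⟩
      · have h1 : y = x⁻¹ * (x * y * x⁻¹) * x := by group
        rw [h1]
        refine ⟨M.mul_mem (M.mul_mem (M.inv_mem hx) hy.1) hx, ?_⟩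
        simpa using Subgroup.Normal.conj_mem inferInstance _ hy.2 x⁻¹
    haveI : Group.IsNilpotent P := hP.isNilpotent
    haveI : (D.subgroupOf P).Normal := hDP
    have hne : D.subgroupOf P ≠ ⊥ := fun h => hD0 (by
      rw [Subgroup.subgroupOf_eq_bot, disjoint_iff, inf_eq_left.mpr (inf_le_right : D ≤ P)] at h
      exact h)
    have hZ := Critical.inf_center_ne_bot (D.subgroupOf P) hne
    set Z := D ⊓ Subgroup.centralizer (P : Set G) with hZdef
    have hZ0 : Z ≠ ⊥ := by
      obtain ⟨x, hx, hx1⟩ := Subgroup.bot_or_exists_ne_one _ |>.resolve_left hZ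
      intro h
      apply hx1
      have : (x : G) ∈ Z := ⟨hx.1, fun y hy =>
        congrArg Subtype.val (Subgroup.mem_center_iff.mp hx.2 ⟨y, hy⟩)⟩
      rw [h, Subgroup.mem_bot] at this
      exact Subtype.ext this
    haveI hZn : Z.Normal := inferInstance
    have hZM : Z ≤ M := inf_le_left.trans inf_le_left
    have hne' : Z.subgroupOf M ≠ ⊥ := fun h => hZ0 (by
      rw [Subgroup.subgroupOf_eq_bot, disjoint_iff, inf_eq_left.mpr hZM] at h
      exact h)
    obtain ⟨N', hN'n, hN'le, hN'p⟩ := exists_normal_prime_card_le hM (Z.subgroupOf M) hne'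
    set N := N'.map M.subtype with hNdef
    have hNZ : N ≤ Z := by
      rintro _ ⟨x, hx, rfl⟩
      exact hN'le hx
    haveI hNn : N.Normal := by
      rw [← Subgroup.normalizer_eq_top_iff, eq_top_iff, ← htop, sup_le_iff]
      refine ⟨fun x hx => ?_,
        (Subgroup.normal_subgroupOf_iff_le_normalizer (Subgroup.map_subtype_le N')).mp
          (by rw [Subgroup.subgroupOf, Subgroup.comap_map_eq_self_of_injective M.subtype_injective]; exact hN'n)⟩
      refine Subgroup.mem_normalizer_iff.mpr fun y => ?_
      have hc : ∀ z ∈ N, x * z * x⁻¹ = z := fun z hz => by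
        rw [(hNZ hz).2 x hx, mul_inv_cancel_right]
      constructor
      · intro hy; rw [hc y hy]; exact hy
      · intro hy
        have h1 : y = x * y * x⁻¹ := by
          have h3 : x⁻¹ * (x * y * x⁻¹) * x = x * y * x⁻¹ := by
            conv_lhs => rw [mul_assoc, ← (hNZ hy).2 x hx]
            group
          calc y = x⁻¹ * (x * y * x⁻¹) * x := by group
            _ = x * y * x⁻¹ := h3
        rw [h1]; exact hy
    have hNp : (Nat.card N).Prime := by
      rwa [hNdef, ← Nat.card_congr (N'.equivMapOfInjective M.subtype M.subtype_injective).toEquiv]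
    haveI : Fact (Nat.card N).Prime := ⟨hNp⟩
    haveI : IsCyclic N := isCyclic_of_prime_card rfl
    refine of_quotient_cyclic N ?_
    set f := QuotientGroup.mk' N
    have hf : Function.Surjective f := QuotientGroup.mk'_surjective N
    haveI : (P.map f).Normal := Subgroup.Normal.map inferInstance f hf
    have hlt : Nat.card (G ⧸ N) < Nat.card G := by
      rw [Subgroup.card_eq_card_quotient_mul_card_subgroup N]
      exact lt_mul_of_one_lt_right Nat.card_pos hNp.one_lt
    refine IH _ hlt (G ⧸ N) (P.map f) (M.map f) rfl (hP.map f)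
      (of_surjective hM (f.subgroupMap M) (f.subgroupMap_surjective M))
      (by rw [← Subgroup.map_sup, htop, Subgroup.map_top_of_surjective f hf]) ?_
    rw [Subgroup.relIndex_map_map, QuotientGroup.ker_mk',
      sup_eq_left.mpr (hNZ.trans hZM),
      sup_eq_left.mpr (hNZ.trans (inf_le_left.trans inf_le_right))]
    exact hidx

end CfsgLib.Supersolvable
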